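import Cfsg.Agent.CharLib.Local

/-!
# Counting irreducible characters by their degrees
-/

set_option autoImplicit false

namespace Cfsg.Agent.CharLib

open Cfsg

universe u v

variable {G : Type u} [Group G]

theorem charDegree_eq_iff {χ : G → ℂ} (hχ : IsCharacter G χ) (n : ℕ) :
    charDegree χ = n ↔ χ 1 = n := by
  rw [← isChar_charDegree hχ, Nat.cast_inj]

theorem charDegree_pos {χ : G → ℂ} (hχ : IsIrrCharacter G χ) : 0 < charDegree χ := by
  obtain ⟨n, h, hn⟩ := isIrr_degree hχ
  rwa [charDegree_eq hn]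

theorem card_irr_degree_congr {H : Type v} [Group H] (e : H ≃* G) (P : ℕ → Prop) :
    Nat.card {χ : IrrCharacter G // P (charDegree (χ : G → ℂ))} =
      Nat.card {χ : IrrCharacter H // P (charDegree (χ : H → ℂ))} :=
  Nat.card_congr ((irrEquiv e).subtypeEquiv fun χ => by
    change _ ↔ P (charDegree fun h => (χ : G → ℂ) (e h))
    simp only [charDegree, map_one])

theorem sylow_normalizer_equiv [Finite G] {p : ℕ} [Fact p.Prime] (P Q : Sylow p G) :
    Nonempty (Subgroup.normalizer ((P : Subgroup G) : Set G) ≃*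
      Subgroup.normalizer ((Q : Subgroup G) : Set G)) := by
  obtain ⟨g, rfl⟩ := MulAction.exists_smul_eq G P Q
  refine ⟨((MulAut.conj g).subgroupMap _).trans (MulEquiv.subgroupCongr ?_)⟩
  exact Subgroup.map_equiv_normalizer_eq _ (MulAut.conj g)

theorem sum_charDegree_sq [Finite G] :
    ∑ χ : IrrCharacter G, charDegree (χ : G → ℂ) ^ 2 = Nat.card G := by
  have := sum_degree_sq (G := G)
  rw [← Finset.sum_congr rfl fun (χ : IrrCharacter G) _ =>
    congrArg (· ^ 2) (isChar_charDegree (isChar_of_irr χ.2))] at this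
  exact_mod_cast this

theorem charDegree_le_index_of_comm [Finite G] (K : Subgroup G) (hK : ∀ a b : K, a * b = b * a)
    {χ : G → ℂ} (hχ : IsIrrCharacter G χ) : charDegree χ ≤ K.index := by
  have := Fintype.ofFinite G
  have h := degree_le_index_of_comm K hK hχ
  rw [← isChar_charDegree (isChar_of_irr hχ)] at h
  exact_mod_cast h

/-- Characters of degree one are the homomorphisms to the units. -/
noncomputable def linearEquiv (G : Type u) [Group G] :
    (G →* ℂˣ) ≃ {χ : IrrCharacter G // charDegree (χ : G → ℂ) = 1} :=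
  Equiv.ofBijective (fun l => ⟨⟨fun g => (l g : ℂ), isIrr_unitsHom l⟩, charDegree_eq (by simp)⟩) (by
    constructor
    · intro l l' h
      ext g
      exact congrFun (congrArg (fun x => x.1.1) h) g
    · rintro ⟨⟨χ, hχ⟩, h⟩
      have h1 : χ 1 = 1 := by
        simpa using (charDegree_eq_iff (isChar_of_irr hχ) 1).mp h
      let f : G →* ℂ := ⟨⟨χ, h1⟩, isChar_mul_of_degree_one (isChar_of_irr hχ) h1⟩
      exact ⟨f.toHomUnits, rfl⟩)

theorem card_degree_one_eq_card_hom :
    Nat.card {χ : IrrCharacter G // charDegree (χ : G → ℂ) = 1} = Nat.card (G →* ℂˣ) :=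
  (Nat.card_congr (linearEquiv G)).symm

theorem card_degree_one [Finite G] :
    Nat.card {χ : IrrCharacter G // charDegree (χ : G → ℂ) = 1} = (commutator G).index := by
  rw [card_degree_one_eq_card_hom, Nat.card_congr Abelianization.lift,
    CommGroup.card_monoidHom_of_hasEnoughRootsOfUnity]
  rfl

theorem card_subtype_eq_sum {α : Type*} [Fintype α] (P : α → Prop) [DecidablePred P] :
    Nat.card {a // P a} = ∑ a, if P a then 1 else 0 := by
  rw [Nat.card_eq_fintype_card, Fintype.card_subtype, Finset.card_filter]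

theorem card_fiber_sum {α : Type*} [Finite α] (f : α → ℕ) (D : Finset ℕ) (hD : ∀ a, f a ∈ D)
    (P : ℕ → Prop) [DecidablePred P] :
    Nat.card {a // P (f a)} = ∑ d ∈ D, if P d then Nat.card {a // f a = d} else 0 := by
  have := Fintype.ofFinite α
  simp only [card_subtype_eq_sum]
  rw [← Finset.sum_fiberwise_of_maps_to (s := Finset.univ) (g := f) (fun a _ => hD a)]
  refine Finset.sum_congr rfl fun d _ => ?_
  rw [Finset.sum_filter]
  split_ifs with h
  · refine Finset.sum_congr rfl fun a _ => ?_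
    split_ifs with h1 h2
    · rfl
    · exact absurd (h1 ▸ h) h2
    · rfl
  · refine Finset.sum_eq_zero fun a _ => ?_
    split_ifs with h1 h2
    · exact absurd (h1 ▸ h2) h
    · rfl
    · rfl

/-- Groups whose irreducible characters have degree at most two. -/
theorem three_mul_card_degree_one [Finite G]
    (h : ∀ χ : IrrCharacter G, charDegree (χ : G → ℂ) ≤ 2) :
    3 * Nat.card {χ : IrrCharacter G // charDegree (χ : G → ℂ) = 1} + Nat.card G =
      4 * Nat.card (ConjClasses G) := by
  rw [← card_irr_eq_card_conjClasses, ← sum_charDegree_sq (G := G),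
    card_subtype_eq_sum (fun χ : IrrCharacter G => charDegree (χ : G → ℂ) = 1), Finset.mul_sum,
    ← Finset.sum_add_distrib, Nat.card_eq_fintype_card, ← Finset.card_univ, Finset.card_eq_sum_ones,
    Finset.mul_sum]
  refine Finset.sum_congr rfl fun χ _ => ?_
  have h1 := h χ
  have h2 := charDegree_pos χ.2
  interval_cases charDegree (χ : G → ℂ) <;> simp

theorem card_odd_degree_mod [Finite G] :
    Nat.card {χ : IrrCharacter G // ¬ 2 ∣ charDegree (χ : G → ℂ)} % 4 = Nat.card G % 4 := by
  rw [← sum_charDegree_sq (G := G), card_subtype_eq_sum, Finset.sum_nat_mod,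
    Finset.sum_nat_mod _ _ (fun χ : IrrCharacter G => charDegree (χ : G → ℂ) ^ 2)]
  congr 1
  refine Finset.sum_congr rfl fun χ _ => ?_
  rcases Nat.even_or_odd' (charDegree (χ : G → ℂ)) with ⟨k, hk | hk⟩
  · rw [if_neg (by omega), hk, mul_pow]; omega
  · rw [if_pos (by omega), hk, show (2 * k + 1) ^ 2 = 1 + 4 * (k * k + k) by ring]; omega

theorem card_odd_degree_le [Finite G] :
    9 * Nat.card {χ : IrrCharacter G // ¬ 2 ∣ charDegree (χ : G → ℂ)} ≤
      Nat.card G + 8 * Nat.card {χ : IrrCharacter G // charDegree (χ : G → ℂ) = 1} := by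
  rw [← sum_charDegree_sq (G := G), card_subtype_eq_sum, card_subtype_eq_sum, Finset.mul_sum,
    Finset.mul_sum, ← Finset.sum_add_distrib]
  refine Finset.sum_le_sum fun χ _ => ?_
  split_ifs with h1 h2 h2
  · omega
  · omega
  · simp [h2]
  · have : 3 ≤ charDegree (χ : G → ℂ) := by omega
    nlinarith

theorem card_degree_pos [Finite G] (P : ℕ → Prop) (h : P 1) :
    0 < Nat.card {χ : IrrCharacter G // P (charDegree (χ : G → ℂ))} :=
  Nat.card_pos_iff.mpr ⟨⟨⟨⟨fun _ => 1, isIrr_one⟩, by
    rwa [charDegree_eq (n := 1) (by simp)]⟩⟩, inferInstance⟩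

theorem degree_eq_one_or [Finite G] {h n : ℕ}
    (h1 : ∀ χ : IrrCharacter G, charDegree (χ : G → ℂ) ≤ h)
    (h2 : n ≤ Nat.card {χ : IrrCharacter G // charDegree (χ : G → ℂ) = 1})
    (h3 : Nat.card (ConjClasses G) * h ^ 2 ≤ Nat.card G + n * (h ^ 2 - 1)) (χ : IrrCharacter G) :
    charDegree (χ : G → ℂ) = 1 ∨ charDegree (χ : G → ℂ) = h := by
  by_contra hc
  rw [not_or] at hc
  refine absurd (h3.trans (Nat.add_le_add_left (Nat.mul_le_mul_right _ h2) _)) (not_le.mpr ?_)
  rw [← card_irr_eq_card_conjClasses, ← sum_charDegree_sq (G := G),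
    card_subtype_eq_sum (fun χ : IrrCharacter G => charDegree (χ : G → ℂ) = 1), Finset.sum_mul,
    ← Finset.sum_add_distrib, Nat.card_eq_fintype_card, ← Finset.card_univ, Finset.card_eq_sum_ones,
    Finset.sum_mul]
  refine Finset.sum_lt_sum (fun ψ _ => ?_) ⟨χ, Finset.mem_univ _, ?_⟩
  · split_ifs with h4
    · have : 1 ≤ h ^ 2 := Nat.one_le_pow _ _ (by have := h1 ψ; omega)
      rw [h4]; omega
    · have := Nat.pow_le_pow_left (h1 ψ) 2
      omega
  · rw [if_neg hc.1]
    have := Nat.pow_lt_pow_left (lt_of_le_of_ne (h1 χ) hc.2) two_ne_zero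
    omega

theorem card_irr_all [Finite G] (P : ℕ → Prop)
    (h : ∀ χ : IrrCharacter G, P (charDegree (χ : G → ℂ))) :
    Nat.card {χ : IrrCharacter G // P (charDegree (χ : G → ℂ))} = Nat.card (ConjClasses G) := by
  rw [← card_irr_eq_card_conjClasses]
  exact Nat.card_congr (Equiv.subtypeUnivEquiv h)

end Cfsg.Agent.CharLib
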