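import Cfsg.Agent.CharLib.Local
/-!
# Central characters, reduction modulo a maximal ideal, characters of defect zero
-/
set_option autoImplicit false

namespace Cfsg.Agent.CharLib
open Cfsg
open scoped ComplexConjugate TensorProduct

universe u
variable {G : Type u} [Group G]

open Classical in
/-- the conjugacy class as a finite set -/
noncomputable def cls [Fintype G] (g : G) : Finset G := Finset.univ.filter fun x => IsConj g x

theorem mem_cls [Fintype G] {g x : G} : x ∈ cls g ↔ IsConj g x := by simp [cls]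

theorem card_cls [Fintype G] (g : G) :
    (cls g).card = (Subgroup.centralizer ({g} : Set G)).index := by
  rw [index_centralizer_eq, ← Nat.card_eq_finsetCard]
  exact Nat.card_congr (Equiv.subtypeEquivRight fun x => mem_cls)

theorem cls_of_central [Fintype G] {z : G} (hz : z ∈ Subgroup.center G) : cls z = {z} := by
  ext x
  rw [mem_cls, Finset.mem_singleton, isConj_iff]
  constructor
  · rintro ⟨c, rfl⟩
    rw [Subgroup.mem_center_iff.1 hz c]; group
  · rintro rfl; exact ⟨1, by simp⟩

theorem centralChar_of_central [Finite G] {z : G} (hz : z ∈ Subgroup.center G) (χ : G → ℂ) :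
    centralChar χ z = χ z / χ 1 := by
  have := Fintype.ofFinite G
  rw [centralChar, ← card_cls, cls_of_central hz]; simp

theorem sum_cls_mul [Fintype G] {χ : G → ℂ} (hχ : IsIrrCharacter G χ) (g h : G) :
    ∑ x ∈ cls g, χ (x * h) = centralChar χ g * χ h := by
  classical
  have hf : IsClassFunction G (fun x => if IsConj g x then (1 : ℂ) else 0) := fun a b => by
    have : IsConj g (b * a * b⁻¹) ↔ IsConj g a :=
      ⟨fun h => h.trans (isConj_iff.2 ⟨b, rfl⟩).symm, fun h => h.trans (isConj_iff.2 ⟨b, rfl⟩)⟩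
    simp only [this]
  have h1 := irr_convolution hf hχ h
  have h0 := isIrr_one_ne_zero hχ
  have h2 : ∑ x, (if IsConj g x then (1 : ℂ) else 0) * χ x = (cls g).card * χ g := by
    rw [← nsmul_eq_mul, ← Finset.sum_const, cls, Finset.sum_filter]
    refine Finset.sum_congr rfl fun x _ => ?_
    split_ifs with hx
    · rw [one_mul, classFun_of_isConj (isChar_classFun (isChar_of_irr hχ)) hx]
    · simp
  have h3 : ∑ x, (if IsConj g x then (1 : ℂ) else 0) * χ (x * h) = ∑ x ∈ cls g, χ (x * h) := by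
    rw [cls, Finset.sum_filter]
    refine Finset.sum_congr rfl fun x _ => ?_
    split_ifs <;> simp
  rw [h2, h3] at h1
  rw [centralChar, ← card_cls]
  field_simp
  rw [mul_comm, h1]

section lattice
variable (R : Type*) [CommRing R] [Algebra R ℂ]

/-- the lattice spanned by the translates of a function -/
def lat (χ : G → ℂ) : Submodule R (G → ℂ) := Submodule.span R (Set.range fun h x => χ (x * h))

/-- right translation -/
def rtr (g : G) : (G → ℂ) →ₗ[R] (G → ℂ) := LinearMap.funLeft R ℂ fun x => x * g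

theorem rtr_mem (χ : G → ℂ) (g : G) : ∀ f ∈ lat R χ, rtr R g f ∈ lat R χ := by
  have : (lat R χ).map (rtr R g) ≤ lat R χ := by
    rw [lat, Submodule.map_span, Submodule.span_le]
    rintro _ ⟨_, ⟨h, rfl⟩, rfl⟩
    exact Submodule.subset_span ⟨g * h, by ext x; simp [rtr, mul_assoc]⟩
  exact fun f hf => this ⟨f, hf, rfl⟩

/-- the action on the lattice -/
def latRep (χ : G → ℂ) : Representation R G (lat R χ) where
  toFun g := (rtr R g).restrict (rtr_mem R χ g)
  map_one' := by ext f x; simp [rtr]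
  map_mul' a b := by ext f x; simp [rtr, mul_assoc]

theorem lat_fg [Finite G] (χ : G → ℂ) : (lat R χ).FG := Submodule.fg_span (Set.finite_range _)

theorem lat_ne_bot {χ : G → ℂ} (h : χ 1 ≠ 0) : lat R χ ≠ ⊥ := fun e => by
  have : (fun x => χ (x * 1)) ∈ lat R χ := Submodule.subset_span ⟨1, rfl⟩
  rw [e, Submodule.mem_bot] at this
  exact h (by simpa using congrFun this 1)

theorem sum_rtr [Fintype G] {χ : G → ℂ} (hχ : IsIrrCharacter G χ) (g : G) {f : G → ℂ}
    (hf : f ∈ lat R χ) : ∑ x ∈ cls g, rtr R x f = centralChar χ g • f := by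
  induction hf using Submodule.span_induction with
  | mem f hf =>
    obtain ⟨h, rfl⟩ := hf
    ext y
    have hc := isChar_classFun (isChar_of_irr hχ)
    simp only [rtr, Finset.sum_apply, LinearMap.funLeft_apply, Pi.smul_apply, smul_eq_mul]
    rw [classFun_mul_comm hc y h, ← sum_cls_mul hχ]
    refine Finset.sum_congr rfl fun x _ => ?_
    rw [mul_assoc, classFun_mul_comm hc, mul_assoc]
  | zero => simp
  | add a b _ _ ha hb => simp only [map_add, Finset.sum_add_distrib, ha, hb, smul_add]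
  | smul c a _ ha => simp only [map_smul, ← Finset.smul_sum, ha, smul_comm c]

end lattice

theorem isIntegral_centralChar [Finite G] {χ : G → ℂ} (hχ : IsIrrCharacter G χ) (g : G) :
    IsIntegral ℤ (centralChar χ g) := by
  have := Fintype.ofFinite G
  refine isIntegral_of_smul_mem_submodule (lat ℤ χ) (lat_ne_bot ℤ (isIrr_one_ne_zero hχ))
    (lat_fg ℤ χ) _ fun f hf => ?_
  rw [← sum_rtr ℤ hχ g hf]
  exact Submodule.sum_mem _ fun x _ => rtr_mem ℤ χ x f hf

/-- the central character as an algebraic integer -/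
noncomputable def omg [Finite G] (χ : IrrCharacter G) (g : G) : AlgInt :=
  ⟨centralChar (χ : G → ℂ) g, isIntegral_centralChar χ.2 g⟩

theorem omg_coe [Finite G] (χ : IrrCharacter G) (g : G) :
    (omg χ g : ℂ) = centralChar (χ : G → ℂ) g := rfl

variable {M : Ideal AlgInt} {p : ℕ}

theorem sameBlock_iff [Finite G] (hM : M.IsPrime) (χ ψ : IrrCharacter G) :
    SameBlock M (χ : G → ℂ) ψ ↔
      ∀ g, Ideal.Quotient.mk M (omg χ g) = Ideal.Quotient.mk M (omg ψ g) := by
  refine forall_congr' fun g => ?_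
  rw [Ideal.Quotient.eq, ← memLI_algInt_iff hM]
  rfl

/-- the reduction of the lattice -/
abbrev modV (M : Ideal AlgInt) (χ : G → ℂ) : Type u := (AlgInt ⧸ M) ⊗[AlgInt] lat AlgInt χ

/-- the reduced representation -/
noncomputable def modRep (M : Ideal AlgInt) (χ : G → ℂ) :
    Representation (AlgInt ⧸ M) G (modV M χ) :=
  (Module.End.baseChangeHom AlgInt (AlgInt ⧸ M) (lat AlgInt χ)).toMonoidHom.comp (latRep AlgInt χ)

theorem modV_finite [Finite G] (χ : G → ℂ) : Module.Finite (AlgInt ⧸ M) (modV M χ) := by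
  have : Module.Finite AlgInt (lat AlgInt χ) := Module.Finite.iff_fg.2 (lat_fg AlgInt χ)
  infer_instance

theorem modV_nontrivial [Finite G] (hM : M ≠ ⊤) {χ : G → ℂ} (h : χ 1 ≠ 0) :
    Nontrivial (modV M χ) := by
  by_contra hn
  rw [not_nontrivial_iff_subsingleton] at hn
  have hf : Module.Finite AlgInt (lat AlgInt χ) := Module.Finite.iff_fg.2 (lat_fg AlgInt χ)
  have h1 := (TensorProduct.quotTensorEquivQuotSMul (lat AlgInt χ) M).symm.subsingleton
  rw [Submodule.Quotient.subsingleton_iff] at h1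
  obtain ⟨r, hr, h2⟩ := Submodule.exists_sub_one_mem_and_smul_eq_zero_of_fg_of_le_smul M
    (⊤ : Submodule AlgInt (lat AlgInt χ)) Module.Finite.fg_top h1.ge
  have h3 := congrFun (congrArg Subtype.val
    (h2 ⟨fun x => χ (x * 1), Submodule.subset_span ⟨1, rfl⟩⟩ trivial)) 1
  have h4 : (r : ℂ) * χ (1 * 1) = 0 := h3
  rw [mul_one] at h4
  have h5 : r = 0 := Subtype.ext ((mul_eq_zero.1 h4).resolve_right h)
  rw [h5, zero_sub, neg_mem_iff] at hr
  exact hM ((Ideal.eq_top_iff_one _).2 hr)

theorem sum_modRep [Fintype G] (χ : IrrCharacter G) (g : G) (v : modV M (χ : G → ℂ)) :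
    ∑ x ∈ cls g, modRep M (χ : G → ℂ) x v = Ideal.Quotient.mk M (omg χ g) • v := by
  have h1 : ∑ x ∈ cls g, latRep AlgInt (χ : G → ℂ) x = algebraMap AlgInt _ (omg χ g) := by
    ext f y
    have := congrFun (sum_rtr AlgInt χ.2 g f.2) y
    simp only [LinearMap.coe_sum, Finset.sum_apply, AddSubmonoidClass.coe_finsetSum] at this ⊢
    exact this
  have h2 := congrArg (Module.End.baseChangeHom AlgInt (AlgInt ⧸ M) (lat AlgInt (χ : G → ℂ))) h1
  rw [map_sum, AlgHom.commutes] at h2
  have h3 := LinearMap.congr_fun h2 v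
  rw [LinearMap.sum_apply] at h3
  refine h3.trans ?_
  rw [Module.algebraMap_end_apply, ← algebraMap_smul (AlgInt ⧸ M)]
  rfl

attribute [local instance] Ideal.Quotient.field

theorem isAlgClosed_res [M.IsMaximal] : IsAlgClosed (AlgInt ⧸ M) := by
  refine IsAlgClosed.of_exists_root _ fun f hf hi => ?_
  have hl : f ∈ Polynomial.lifts (Ideal.Quotient.mk M) :=
    (Polynomial.mem_lifts _).2 (Polynomial.map_surjective _ Ideal.Quotient.mk_surjective f)
  obtain ⟨F, h1, h2, h3⟩ := Polynomial.lifts_and_natDegree_eq_and_monic hl hf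
  have hd : (F.map (algebraMap AlgInt ℂ)).degree ≠ 0 := by
    rw [h3.degree_map, Polynomial.degree_eq_natDegree h3.ne_zero, h2]
    exact_mod_cast hi.natDegree_pos.ne'
  obtain ⟨z, hz⟩ := IsAlgClosed.exists_root _ hd
  have hz' : Polynomial.eval₂ (algebraMap AlgInt ℂ) z F = 0 := by
    rw [← Polynomial.eval_map]; exact hz
  have hi' : IsIntegral ℤ z := isIntegral_trans (A := AlgInt) z ⟨F, h3, hz'⟩
  refine ⟨Ideal.Quotient.mk M ⟨z, hi'⟩, ?_⟩
  have h4 : F.eval ⟨z, hi'⟩ = 0 := by
    apply Subtype.ext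
    have := Polynomial.hom_eval₂ F (RingHom.id _) (algebraMap AlgInt ℂ) ⟨z, hi'⟩
    rw [Polynomial.eval₂_id] at this
    exact this.trans hz'
  rw [← h1, Polynomial.eval_map, Polynomial.eval₂_at_apply, h4, map_zero]

theorem charP_res (hM : IsPModular p M) : CharP (AlgInt ⧸ M) p := by
  refine ⟨fun n => ?_⟩
  rw [← map_natCast (Ideal.Quotient.mk M), Ideal.Quotient.eq_zero_iff_mem]
  have := intCast_mem_iff hM n
  rw [Int.cast_natCast, Int.natCast_dvd_natCast] at this
  exact this

theorem exists_isPModular (hp : p.Prime) : ∃ M : Ideal AlgInt, IsPModular p M := by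
  have h : Ideal.span {(p : AlgInt)} ≠ ⊤ := by
    rw [Ne, Ideal.span_singleton_eq_top]
    intro hu
    obtain ⟨a, ha⟩ := hu.exists_right_inv
    have h1 : (p : ℂ) * a = 1 := by exact_mod_cast congrArg Subtype.val ha
    have hp0 : (p : ℂ) ≠ 0 := by exact_mod_cast hp.ne_zero
    have h2 : (a : ℂ) = algebraMap ℚ ℂ (p : ℚ)⁻¹ := by
      rw [map_inv₀, map_natCast]; field_simp; rw [mul_comm]; exact h1
    have h3 : IsIntegral ℤ (p : ℚ)⁻¹ := by
      have := a.2
      rw [mem_integralClosure_iff, h2] at this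
      exact (isIntegral_algebraMap_iff (algebraMap ℚ ℂ).injective).1 this
    obtain ⟨y, hy⟩ := IsIntegrallyClosed.isIntegral_iff.1 h3
    have hp1 : (p : ℚ) ≠ 0 := by exact_mod_cast hp.ne_zero
    have h4 : (p : ℤ) * y = 1 := by
      have : (p : ℚ) * y = 1 := by rw [show (y : ℚ) = (p : ℚ)⁻¹ from hy]; field_simp
      exact_mod_cast this
    have h5 := Int.eq_one_of_mul_eq_one_right (by positivity) h4
    exact hp.one_lt.ne' (by exact_mod_cast h5)
  obtain ⟨M, hM, hle⟩ := Ideal.exists_le_maximal _ h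
  exact ⟨M, hp, hM, hle (Ideal.mem_span_singleton_self _)⟩

theorem memLI_sum (hM : M.IsPrime) {ι : Type*} (s : Finset ι) {f : ι → ℂ}
    (h : ∀ i ∈ s, MemLocalIdeal M (f i)) : MemLocalIdeal M (∑ i ∈ s, f i) :=
  Finset.sum_induction f _ (fun _ _ => memLI_add hM) (memLI_zero hM) h

/-- roots of unity of order prime to `p` are distinct modulo `M` -/
theorem eq_one_of_memLI (hM : IsPModular p M) {z : ℂ} {n : ℕ} (hn : ¬ p ∣ n) (hz : z ^ n = 1)
    (h : MemLocalIdeal M (z - 1)) : z = 1 := by
  by_contra h1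
  have hP := hM.2.1.isPrime
  have hn0 : n ≠ 0 := by rintro rfl; exact hn (dvd_zero _)
  have hi : IsIntegral ℤ z := IsIntegral.of_pow (Nat.pos_of_ne_zero hn0) (hz ▸ isIntegral_one)
  have h2 : ∑ i ∈ Finset.range n, z ^ i = 0 := by
    have := mul_geom_sum z n
    rw [hz, sub_self] at this
    exact (mul_eq_zero.1 this).resolve_left (sub_ne_zero.2 h1)
  have h3 : MemLocalIdeal M (∑ i ∈ Finset.range n, (z ^ i - 1)) := by
    refine memLI_sum hP _ fun i _ => ?_
    rw [← mul_geom_sum]
    exact memLI_mul_right hP h (memLR_of_isIntegral hP (IsIntegral.sum _ fun j _ => hi.pow j))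
  rw [Finset.sum_sub_distrib, h2, zero_sub] at h3
  have h4 := memLI_neg h3
  simp only [Finset.sum_const, Finset.card_range, nsmul_eq_mul, mul_one, neg_neg] at h4
  exact hn ((memLI_natCast_iff hM n).1 h4)

/-- defect zero: the degree divided by the group order is a `p`-local integer -/
def DefZero (p : ℕ) (χ : G → ℂ) : Prop := ∃ d m : ℕ, ¬ p ∣ m ∧ χ 1 * m = d * Nat.card G

theorem defZero_of_dvd [Finite G] (hp : p.Prime) {χ : G → ℂ} {d : ℕ} (h1 : χ 1 = d)
    (h2 : p ^ (Nat.card G).factorization p ∣ d) : DefZero p χ := by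
  obtain ⟨e, rfl⟩ := h2
  refine ⟨e, ordCompl[p] (Nat.card G), Nat.not_dvd_ordCompl hp Nat.card_pos.ne', ?_⟩
  rw [h1]
  have := Nat.ordProj_mul_ordCompl_eq_self (Nat.card G) p
  norm_cast
  rw [mul_right_comm, this, mul_comm]

theorem sum_eq_sum_conjClasses [Fintype G] [Fintype (ConjClasses G)] {f : G → ℂ}
    (hf : IsClassFunction G f) :
    ∑ g, f g = ∑ c : ConjClasses G, (cls c.out).card * f c.out := by
  classical
  rw [← Finset.sum_fiberwise_of_maps_to (s := Finset.univ) (t := Finset.univ)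
    (g := ConjClasses.mk) (fun _ _ => Finset.mem_univ _)]
  refine Finset.sum_congr rfl fun c _ => ?_
  have h1 : ∀ x, ConjClasses.mk x = c ↔ IsConj c.out x := fun x => by
    rw [← ConjClasses.mk_eq_mk_iff_isConj, show ConjClasses.mk c.out = c from Quotient.out_eq c,
      eq_comm]
  rw [← nsmul_eq_mul, ← Finset.sum_const]
  refine Finset.sum_congr (by ext x; simp [h1, mem_cls]) fun x hx => ?_
  exact (classFun_of_isConj hf (mem_cls.1 hx)).symm

/-- a character of defect zero is alone in its block -/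
theorem eq_of_sameBlock [Finite G] (hM : IsPModular p M) {χ ψ : G → ℂ} (hχ : IsIrrCharacter G χ)
    (hψ : IsIrrCharacter G ψ) (h0 : DefZero p χ) (h : SameBlock M χ ψ) : χ = ψ := by
  classical
  have := Fintype.ofFinite G
  have := Fintype.ofFinite (ConjClasses G)
  have hP := hM.2.1.isPrime
  by_contra hne
  obtain ⟨d, m, hm, e⟩ := h0
  have hm0 : (m : ℂ) ≠ 0 := by
    have : m ≠ 0 := by rintro rfl; exact hm (dvd_zero _)
    exact_mod_cast this
  have hG : (Nat.card G : ℂ) ≠ 0 := card_ne_zero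
  have key : ∀ φ, IsIrrCharacter G φ →
      ∑ c : ConjClasses G, (d * (m : ℂ)⁻¹ * conj (χ c.out)) * centralChar φ c.out =
        χ 1 / φ 1 * classInner φ χ := by
    intro φ hφ
    have hc : IsClassFunction G fun g => φ g * conj (χ g) :=
      classFun_mul (isChar_classFun (isChar_of_irr hφ))
        (classFun_conj (isChar_classFun (isChar_of_irr hχ)))
    rw [classInner, sum_eq_sum_conjClasses hc, Finset.mul_sum, Finset.mul_sum]
    refine Finset.sum_congr rfl fun c _ => ?_
    have h1 := isIrr_one_ne_zero hφ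
    have h2 : χ 1 = d * Nat.card G / m := by rw [← e]; field_simp
    rw [centralChar, card_cls, h2]
    field_simp
  have h1 : MemLocalIdeal M (∑ c : ConjClasses G,
      (d * (m : ℂ)⁻¹ * conj (χ c.out)) * (centralChar χ c.out - centralChar ψ c.out)) := by
    refine memLI_sum hP _ fun c _ => memLI_mul_left hP ?_ (h _)
    refine memLR_mul hP (memLR_mul hP (memLR_natCast hP d) (memLR_inv_natCast hM hm)) ?_
    rw [isChar_conj (isChar_of_irr hχ)]
    exact memLR_of_isIntegral hP (isChar_isIntegral (isChar_of_irr hχ) _)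
  simp only [mul_sub, Finset.sum_sub_distrib] at h1
  rw [key χ hχ, key ψ hψ, inner_irr_self hχ, inner_irr_ne hψ hχ (Ne.symm hne),
    div_self (isIrr_one_ne_zero hχ)] at h1
  exact not_memLI_one hP (by simpa using h1)

theorem trace_eq_of_congr {R k ι : Type*} [CommRing R] [IsDomain R] [Field k] [Fintype ι]
    [DecidableEq ι] (π : R →+* k) {m : R} (hm : π m ≠ 0) {E E' P : Matrix ι ι R}
    (h1 : E * E = m • E) (h2 : E' * E' = m • E') (h3 : E.map π = E'.map π)
    (h4 : P * E = E * P) (h5 : P * E' = E' * P) : (E * P).trace = (E' * P).trace := by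
  set T : Matrix ι ι R := E * E' + (m • 1 - E) * (m • 1 - E') with hT
  have e1 : E * T = T * E' := by
    simp only [hT, mul_add, add_mul, mul_sub, sub_mul, smul_mul_assoc, mul_smul_comm, one_mul,
      mul_one, ← mul_assoc, h1]
    simp only [mul_assoc, h2, mul_smul_comm, smul_sub, smul_smul]
    abel
  have e2 : P * T = T * P := by
    have c1 : Commute P E := h4
    have c2 : Commute P E' := h5
    have c3 : Commute P (m • (1 : Matrix ι ι R)) := (Commute.one_right P).smul_right m
    exact (c1.mul_right c2).add_right ((c3.sub_right c1).mul_right (c3.sub_right c2))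
  have e3 : π.mapMatrix T = (π m * π m) • 1 := by
    have h3' : π.mapMatrix E' = π.mapMatrix E := h3.symm
    have h6 : π.mapMatrix (m • (1 : Matrix ι ι R)) = π m • 1 := by
      ext i j; by_cases h : i = j <;> simp [h]
    have h7 : π.mapMatrix E * π.mapMatrix E = π m • π.mapMatrix E := by
      rw [← map_mul, h1]; ext i j; simp
    rw [hT, map_add, map_mul, map_mul, map_sub, map_sub, h3', h6]
    simp only [mul_sub, sub_mul, smul_mul_assoc, mul_smul_comm, one_mul, mul_one, h7, smul_smul,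
      smul_sub]
    abel
  have e4 : T.det ≠ 0 := fun h => by
    have := π.map_det T
    rw [h, map_zero, e3, Matrix.det_smul, Matrix.det_one, mul_one] at this
    exact pow_ne_zero _ (mul_ne_zero hm hm) this.symm
  apply mul_left_cancel₀ e4
  calc T.det * (E * P).trace = (T * T.adjugate * (E * P)).trace := by
        rw [Matrix.mul_adjugate, smul_mul_assoc, one_mul, Matrix.trace_smul, smul_eq_mul]
    _ = (T.adjugate * (E * P) * T).trace := by rw [mul_assoc, Matrix.trace_mul_comm]
    _ = (T.adjugate * T * (E' * P)).trace := by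
        rw [mul_assoc, mul_assoc, e2, ← mul_assoc E, e1, mul_assoc, mul_assoc]
    _ = T.det * (E' * P).trace := by
        rw [Matrix.adjugate_mul, smul_mul_assoc, one_mul, Matrix.trace_smul, smul_eq_mul]

theorem exists_twist [Finite G] {g : G} {A : Type*} [CommGroup A] {ζ : A}
    (h : orderOf ζ ∣ orderOf g) :
    ∃ Λ : G → A, (∀ x, Λ (g * x) = ζ * Λ x) ∧ ∀ x, Λ x ∈ Subgroup.zpowers ζ := by
  set C := Subgroup.zpowers g
  have h1 : ∀ x : C, x ∈ Subgroup.zpowers (⟨g, Subgroup.mem_zpowers g⟩ : C) := by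
    rintro ⟨_, k, rfl⟩
    exact ⟨k, rfl⟩
  have h2 : orderOf ζ ∣ orderOf (⟨g, Subgroup.mem_zpowers g⟩ : C) := by
    rwa [Subgroup.orderOf_mk]
  set φ := monoidHomOfForallMemZpowers h1 h2
  have hφ : φ ⟨g, Subgroup.mem_zpowers g⟩ = ζ := monoidHomOfForallMemZpowers_apply_gen h1 h2
  have h3 : ∀ x : G, x * (Quotient.mk (QuotientGroup.rightRel C) x).out⁻¹ ∈ C := fun x =>
    QuotientGroup.rightRel_apply.1 (Quotient.exact (Quotient.out_eq
      (Quotient.mk (QuotientGroup.rightRel C) x)))
  refine ⟨fun x => φ ⟨_, h3 x⟩, fun x => ?_, fun x => ?_⟩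
  · have h4 : Quotient.mk (QuotientGroup.rightRel C) (g * x) =
        Quotient.mk (QuotientGroup.rightRel C) x :=
      Quotient.sound (QuotientGroup.rightRel_apply.2 (by simp [C]))
    rw [← hφ, ← map_mul]
    refine congrArg φ (Subtype.ext ?_)
    simp only [h4, Subgroup.coe_mul, mul_assoc]
  · obtain ⟨k, hk⟩ := h1 ⟨_, h3 x⟩
    refine ⟨k, ?_⟩
    simp only at hk ⊢
    rw [← hk, map_zpow, hφ]

/-- Brauer–Nesbitt: a character of defect zero vanishes at the `p`-singular elements -/
theorem eq_zero_of_defZero [Finite G] (hp : p.Prime) {χ : G → ℂ} (hχ : IsIrrCharacter G χ)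
    (h0 : DefZero p χ) {g : G} (hg : p ∣ orderOf g) : χ g = 0 := by
  classical
  have := Fintype.ofFinite G
  obtain ⟨M, hM⟩ := exists_isPModular hp
  have hmax := hM.2.1
  have hP := hmax.isPrime
  have hcp := charP_res hM
  obtain ⟨d, m, hm, e⟩ := h0
  have hch := isChar_of_irr hχ
  have hz := Complex.isPrimitiveRoot_exp p hp.ne_zero
  set z := Complex.exp (2 * Real.pi * Complex.I / p)
  have hzi : IsIntegral ℤ z := IsIntegral.of_pow hp.pos (hz.pow_eq_one ▸ isIntegral_one)
  have hz' : IsPrimitiveRoot (⟨z, hzi⟩ : AlgInt) p :=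
    IsPrimitiveRoot.of_map_of_injective (f := (algebraMap AlgInt ℂ)) hz Subtype.val_injective
  set ζ : AlgIntˣ := (hz'.isUnit hp.ne_zero).unit
  have hζ : IsPrimitiveRoot ζ p := IsPrimitiveRoot.coe_units_iff.1 hz'
  obtain ⟨Λ, hΛ, hΛ'⟩ := exists_twist (g := g) (ζ := ζ) (hζ.eq_orderOf ▸ hg)
  have hπ : ∀ a ∈ Subgroup.zpowers ζ, Ideal.Quotient.mk M (a : AlgInt) = 1 := by
    intro a ha
    have h1 : a ^ p = 1 := by
      obtain ⟨k, rfl⟩ := ha
      simp only
      rw [← zpow_natCast, ← zpow_mul, mul_comm, zpow_mul, zpow_natCast, hζ.pow_eq_one, one_zpow]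
    rw [← map_one (Ideal.Quotient.mk M), Ideal.Quotient.eq, ← memLI_algInt_iff hP]
    refine memLI_sub_one_of_pow hM (k := 1) ?_
    rw [pow_one]
    simpa using congrArg (fun a : AlgIntˣ => ((a : AlgInt) : ℂ)) h1
  let c : G → AlgInt := fun x => ⟨χ x, isChar_isIntegral hch x⟩
  have hcc : ∀ a b, c (b⁻¹ * a * b) = c a := fun a b => Subtype.ext (by
    simpa [c] using isChar_classFun hch a b⁻¹)
  let E : Matrix G G AlgInt := Matrix.of fun x y => d * c (x⁻¹ * y)
  let E' : Matrix G G AlgInt := Matrix.of fun x y => ((Λ x)⁻¹ : AlgIntˣ) * E x y * Λ y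
  let P : Matrix G G AlgInt := Matrix.of fun x y => if x = g * y then 1 else 0
  have hPl : ∀ A : Matrix G G AlgInt, ∀ x y, (P * A) x y = A (g⁻¹ * x) y := fun A x y => by
    rw [Matrix.mul_apply, Finset.sum_eq_single (g⁻¹ * x)]
    · simp [P]
    · intro b _ hb
      have : x ≠ g * b := fun h => hb (by rw [h]; group)
      simp [P, this]
    · simp
  have hPr : ∀ A : Matrix G G AlgInt, ∀ x y, (A * P) x y = A x (g * y) := fun A x y => by
    rw [Matrix.mul_apply, Finset.sum_eq_single (g * y)]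
    · simp [P]
    · intro b _ hb
      simp [P, hb]
    · simp
  have h1 : E * E = (m : AlgInt) • E := by
    ext x y
    have h2 := irr_convolution (f := fun t => χ t⁻¹) (isChar_classFun (isChar_inv hch)) hχ (x⁻¹ * y)
    have h3 : ∑ t, χ t⁻¹ * χ t = Nat.card G := by
      have := inner_irr_self hχ
      rw [inner_eq_inv hch] at this
      have hG : (Nat.card G : ℂ) ≠ 0 := card_ne_zero
      rw [Finset.sum_congr rfl fun t _ => mul_comm _ _]
      field_simp at this
      exact this
    have h4 : ∑ t, χ (x⁻¹ * t) * χ (t⁻¹ * y) = ∑ t, χ t⁻¹ * χ (t * (x⁻¹ * y)) := by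
      refine (Fintype.sum_equiv ((Equiv.inv G).trans (Equiv.mulLeft x)) _ _ fun t => ?_).symm
      simp [mul_assoc]
    have h5 : ((E * E) x y : ℂ) = d * d * ∑ t, χ (x⁻¹ * t) * χ (t⁻¹ * y) := by
      simp only [Matrix.mul_apply, E, Matrix.of_apply, c, Finset.mul_sum]
      push_cast
      refine Finset.sum_congr rfl fun t _ => ?_
      ring
    rw [h5, h4]
    apply mul_left_cancel₀ (isIrr_one_ne_zero hχ)
    rw [mul_left_comm, h2, h3]
    have h6 : (((m : AlgInt) • E) x y : ℂ) = m * (d * χ (x⁻¹ * y)) := by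
      simp [E, c]
    rw [h6, ← mul_assoc (χ 1), e]
    ring
  have h2 : E' * E' = (m : AlgInt) • E' := by
    ext x y : 1
    have := congrFun (congrFun h1 x) y
    simp only [Matrix.mul_apply, Matrix.smul_apply, smul_eq_mul] at this ⊢
    simp only [E', Matrix.of_apply]
    rw [show (m : AlgInt) * (((Λ x)⁻¹ : AlgIntˣ) * E x y * Λ y) =
      ((Λ x)⁻¹ : AlgIntˣ) * (m * E x y) * Λ y by ring, ← this, Finset.mul_sum, Finset.sum_mul]
    refine Finset.sum_congr rfl fun t _ => ?_
    have h3 : ((Λ t : AlgIntˣ) : AlgInt) * ((Λ t)⁻¹ : AlgIntˣ) = 1 := Units.mul_inv _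
    linear_combination (((Λ x)⁻¹ : AlgIntˣ) * E x t * E t y * Λ y) * h3
  have h3 : E.map (Ideal.Quotient.mk M) = E'.map (Ideal.Quotient.mk M) := by
    ext x y
    simp only [Matrix.map_apply, E', Matrix.of_apply, map_mul, hπ _ (hΛ' y),
      hπ _ (inv_mem (hΛ' x)), one_mul, mul_one]
  have h4 : ∀ x y, E (g⁻¹ * x) y = E x (g * y) := fun x y => by simp [E, mul_assoc]
  have h5 : P * E = E * P := by ext x y : 1; rw [hPl, hPr, h4]
  have h6 : P * E' = E' * P := by
    ext x y : 1
    rw [hPl, hPr]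
    have h7 := hΛ (g⁻¹ * x)
    rw [mul_inv_cancel_left] at h7
    simp only [E', Matrix.of_apply, h4, hΛ, h7, mul_inv, Units.val_mul]
    have h8 : ((ζ⁻¹ : AlgIntˣ) : AlgInt) * ζ = 1 := Units.inv_mul _
    linear_combination (-((Λ (g⁻¹ * x))⁻¹ : AlgIntˣ) * E x (g * y) * Λ y) * h8
  have hm' : Ideal.Quotient.mk M (m : AlgInt) ≠ 0 := by
    rw [map_natCast, Ne, CharP.cast_eq_zero_iff _ p]; exact hm
  have h7 := trace_eq_of_congr (Ideal.Quotient.mk M) hm' h1 h2 h3 h5 h6
  have h8 : (E * P).trace = Fintype.card G * (d * c g) := by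
    simp only [Matrix.trace, Matrix.diag, hPr, E, Matrix.of_apply, ← mul_assoc, hcc]
    simp [mul_assoc]
  have h9 : (E' * P).trace = ζ * (Fintype.card G * (d * c g)) := by
    simp only [Matrix.trace, Matrix.diag, hPr, E', E, Matrix.of_apply, ← mul_assoc _ g, hcc, hΛ,
      Units.val_mul]
    rw [Finset.sum_congr rfl (g := fun _ => (ζ : AlgInt) * ((d : AlgInt) * c g)) fun t _ => ?_]
    · simp only [Finset.sum_const, Finset.card_univ, nsmul_eq_mul]; ring
    have h3 : (((Λ t)⁻¹ : AlgIntˣ) : AlgInt) * Λ t = 1 := Units.inv_mul _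
    linear_combination (ζ * (d * c g)) * h3
  rw [h8, h9] at h7
  have h10 : (ζ : AlgInt) - 1 ≠ 0 := sub_ne_zero.2 (hz'.ne_one hp.one_lt)
  have h11 : (Fintype.card G : AlgInt) * (d * c g) = 0 := by
    apply mul_left_cancel₀ h10; linear_combination -h7
  have hd : (d : AlgInt) ≠ 0 := by
    have : d ≠ 0 := by
      rintro rfl
      have hm0 : m ≠ 0 := by rintro rfl; exact hm (dvd_zero _)
      exact mul_ne_zero (isIrr_one_ne_zero hχ) (Nat.cast_ne_zero.2 hm0) (by simpa using e)
    exact_mod_cast this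
  have h12 : c g = 0 := by
    rcases mul_eq_zero.1 h11 with h | h
    · exact absurd h (Nat.cast_ne_zero.2 Fintype.card_ne_zero)
    · exact (mul_eq_zero.1 h).resolve_left hd
  exact congrArg Subtype.val h12

end Cfsg.Agent.CharLib
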