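import Cfsg.Agent.CharLib.ClassFun
import Cfsg.Prelude.Def_Blocks

/-!
# The local ring at a maximal ideal of the algebraic integers
-/

set_option autoImplicit false

namespace Cfsg.Agent.CharLib

open Cfsg

universe u

variable {M : Ideal AlgInt} {p : ℕ}

theorem algInt_ne_zero {b : AlgInt} (hb : b ∉ M) : (b : ℂ) ≠ 0 := by
  intro h
  apply hb
  rw [show b = 0 from Subtype.ext h]
  exact M.zero_mem

theorem memLI_of_mem {a : AlgInt} (hM : M.IsPrime) (ha : a ∈ M) : MemLocalIdeal M (a : ℂ) :=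
  ⟨a, 1, ha, (Ideal.ne_top_iff_one M).mp hM.ne_top, by simp⟩

theorem memLI_zero (hM : M.IsPrime) : MemLocalIdeal M 0 := memLI_of_mem hM M.zero_mem

theorem memLR_of_isIntegral (hM : M.IsPrime) {z : ℂ} (hz : IsIntegral ℤ z) : MemLocalRing M z :=
  ⟨⟨z, hz⟩, 1, (Ideal.ne_top_iff_one M).mp hM.ne_top, by simp⟩

theorem memLR_of_memLI {z : ℂ} (h : MemLocalIdeal M z) : MemLocalRing M z := by
  obtain ⟨a, b, -, hb, h⟩ := h
  exact ⟨a, b, hb, h⟩

theorem memLI_add (hM : M.IsPrime) {x y : ℂ} (hx : MemLocalIdeal M x) (hy : MemLocalIdeal M y) :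
    MemLocalIdeal M (x + y) := by
  obtain ⟨a, b, ha, hb, rfl⟩ := hx
  obtain ⟨c, d, hc, hd, rfl⟩ := hy
  refine ⟨a * d + b * c, b * d, M.add_mem (M.mul_mem_right _ ha) (M.mul_mem_left _ hc),
    fun h => (hM.mem_or_mem h).elim hb hd, ?_⟩
  rw [div_add_div _ _ (algInt_ne_zero hb) (algInt_ne_zero hd)]
  simp

theorem memLI_neg {x : ℂ} (hx : MemLocalIdeal M x) : MemLocalIdeal M (-x) := by
  obtain ⟨a, b, ha, hb, rfl⟩ := hx
  exact ⟨-a, b, M.neg_mem ha, hb, by simp [neg_div]⟩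

theorem memLI_sub (hM : M.IsPrime) {x y : ℂ} (hx : MemLocalIdeal M x) (hy : MemLocalIdeal M y) :
    MemLocalIdeal M (x - y) := by
  rw [sub_eq_add_neg]; exact memLI_add hM hx (memLI_neg hy)

theorem memLI_mul_left (hM : M.IsPrime) {x y : ℂ} (hx : MemLocalRing M x)
    (hy : MemLocalIdeal M y) : MemLocalIdeal M (x * y) := by
  obtain ⟨a, b, hb, rfl⟩ := hx
  obtain ⟨c, d, hc, hd, rfl⟩ := hy
  refine ⟨a * c, b * d, M.mul_mem_left _ hc, fun h => (hM.mem_or_mem h).elim hb hd, ?_⟩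
  rw [div_mul_div_comm]
  simp

theorem memLI_mul_right (hM : M.IsPrime) {x y : ℂ} (hx : MemLocalIdeal M x)
    (hy : MemLocalRing M y) : MemLocalIdeal M (x * y) := by
  rw [mul_comm]; exact memLI_mul_left hM hy hx

theorem memLR_add (hM : M.IsPrime) {x y : ℂ} (hx : MemLocalRing M x) (hy : MemLocalRing M y) :
    MemLocalRing M (x + y) := by
  obtain ⟨a, b, hb, rfl⟩ := hx
  obtain ⟨c, d, hd, rfl⟩ := hy
  refine ⟨a * d + b * c, b * d, fun h => (hM.mem_or_mem h).elim hb hd, ?_⟩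
  rw [div_add_div _ _ (algInt_ne_zero hb) (algInt_ne_zero hd)]
  simp

theorem memLR_neg {x : ℂ} (hx : MemLocalRing M x) : MemLocalRing M (-x) := by
  obtain ⟨a, b, hb, rfl⟩ := hx
  exact ⟨-a, b, hb, by simp [neg_div]⟩

theorem memLR_sub (hM : M.IsPrime) {x y : ℂ} (hx : MemLocalRing M x) (hy : MemLocalRing M y) :
    MemLocalRing M (x - y) := by
  rw [sub_eq_add_neg]; exact memLR_add hM hx (memLR_neg hy)

theorem memLR_mul (hM : M.IsPrime) {x y : ℂ} (hx : MemLocalRing M x) (hy : MemLocalRing M y) :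
    MemLocalRing M (x * y) := by
  obtain ⟨a, b, hb, rfl⟩ := hx
  obtain ⟨c, d, hd, rfl⟩ := hy
  refine ⟨a * c, b * d, fun h => (hM.mem_or_mem h).elim hb hd, ?_⟩
  rw [div_mul_div_comm]
  simp

theorem memLI_algInt_iff (hM : M.IsPrime) {a : AlgInt} : MemLocalIdeal M (a : ℂ) ↔ a ∈ M := by
  refine ⟨?_, memLI_of_mem hM⟩
  rintro ⟨c, d, hc, hd, h⟩
  rw [div_eq_iff (algInt_ne_zero hd)] at h
  have : c = a * d := Subtype.ext h
  rw [this] at hc
  exact (hM.mem_or_mem hc).resolve_right hd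

/-- The local ideal is prime in the local ring. -/
theorem memLI_or_of_mul (hM : M.IsPrime) {x y : ℂ} (hx : MemLocalRing M x) (hy : MemLocalRing M y)
    (h : MemLocalIdeal M (x * y)) : MemLocalIdeal M x ∨ MemLocalIdeal M y := by
  obtain ⟨a, b, hb, rfl⟩ := hx
  obtain ⟨c, d, hd, rfl⟩ := hy
  have h1 := memLI_mul_left hM (memLR_of_isIntegral hM (b * d).2) h
  have h2 : ((b * d : AlgInt) : ℂ) * ((a : ℂ) / b * (c / d)) = ((a * c : AlgInt) : ℂ) := by
    have := algInt_ne_zero hb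
    have := algInt_ne_zero hd
    push_cast
    field_simp
  rw [h2, memLI_algInt_iff hM] at h1
  exact (hM.mem_or_mem h1).imp (fun h => ⟨a, b, h, hb, rfl⟩) (fun h => ⟨c, d, h, hd, rfl⟩)

theorem intCast_mem_iff (hM : IsPModular p M) (n : ℤ) : (n : AlgInt) ∈ M ↔ (p : ℤ) ∣ n := by
  constructor
  · intro h
    by_contra hn
    have hp : Prime (p : ℤ) := Nat.prime_iff_prime_int.mp hM.1
    obtain ⟨a, b, hab⟩ := (hp.irreducible.coprime_iff_not_dvd).mpr hn
    apply hM.2.1.ne_top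
    rw [Ideal.eq_top_iff_one]
    have : (1 : AlgInt) = a * (p : AlgInt) + b * (n : AlgInt) := by
      exact_mod_cast congrArg (Int.cast : ℤ → AlgInt) hab.symm
    rw [this]
    exact M.add_mem (M.mul_mem_left _ hM.2.2) (M.mul_mem_left _ h)
  · rintro ⟨k, rfl⟩
    push_cast
    exact M.mul_mem_right _ hM.2.2

theorem memLI_intCast_iff (hM : IsPModular p M) (n : ℤ) :
    MemLocalIdeal M (n : ℂ) ↔ (p : ℤ) ∣ n := by
  rw [← intCast_mem_iff hM, ← memLI_algInt_iff hM.2.1.isPrime]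
  simp

theorem memLI_natCast_iff (hM : IsPModular p M) (n : ℕ) : MemLocalIdeal M (n : ℂ) ↔ p ∣ n := by
  rw [← Int.natCast_dvd_natCast, ← memLI_intCast_iff hM, Int.cast_natCast]

theorem not_memLI_one (hM : M.IsPrime) : ¬ MemLocalIdeal M 1 := by
  have := memLI_algInt_iff hM (a := 1)
  rw [OneMemClass.coe_one] at this
  rw [this]
  exact (Ideal.ne_top_iff_one M).mp hM.ne_top

theorem memLR_intCast (hM : M.IsPrime) (n : ℤ) : MemLocalRing M (n : ℂ) :=
  memLR_of_isIntegral hM (isIntegral_algebraMap (R := ℤ) (x := n))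

theorem memLR_natCast (hM : M.IsPrime) (n : ℕ) : MemLocalRing M (n : ℂ) := by
  rw [← Int.cast_natCast]; exact memLR_intCast hM n

theorem memLR_inv_intCast (hM : IsPModular p M) {n : ℤ} (hn : ¬ (p : ℤ) ∣ n) :
    MemLocalRing M (n : ℂ)⁻¹ :=
  ⟨1, n, (intCast_mem_iff hM n).not.mpr hn, by simp⟩

theorem memLR_inv_natCast (hM : IsPModular p M) {n : ℕ} (hn : ¬ p ∣ n) :
    MemLocalRing M (n : ℂ)⁻¹ := by
  rw [← Int.cast_natCast]
  exact memLR_inv_intCast hM (by rwa [Int.natCast_dvd_natCast])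

theorem memLI_div_intCast_iff (hM : IsPModular p M) (a : ℤ) {b : ℤ} (hb : ¬ (p : ℤ) ∣ b) :
    MemLocalIdeal M ((a : ℂ) / b) ↔ (p : ℤ) ∣ a := by
  have hP := hM.2.1.isPrime
  rw [← memLI_intCast_iff hM]
  have hb0 : (b : ℂ) ≠ 0 := by
    rw [Int.cast_ne_zero]; rintro rfl; exact hb (dvd_zero _)
  constructor
  · intro h
    have := memLI_mul_right hP h (memLR_intCast hP b)
    rwa [div_mul_cancel₀ _ hb0] at this
  · intro h
    rw [div_eq_mul_inv]
    exact memLI_mul_right hP h (memLR_inv_intCast hM hb)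

/-- A root of unity of `p`-power order is congruent to one. -/
theorem memLI_sub_one_of_pow (hM : IsPModular p M) {z : ℂ} {k : ℕ} (hz : z ^ p ^ k = 1) :
    MemLocalIdeal M (z - 1) := by
  have hP := hM.2.1.isPrime
  have hi : IsIntegral ℤ z :=
    IsIntegral.of_pow (pow_pos hM.1.pos k) (by rw [hz]; exact isIntegral_one)
  have : Fact p.Prime := ⟨hM.1⟩
  have : CharP (AlgInt ⧸ M) p := by
    constructor
    intro n
    rw [← map_natCast (Ideal.Quotient.mk M), Ideal.Quotient.eq_zero_iff_mem,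
      ← Int.natCast_dvd_natCast, ← intCast_mem_iff hM, Int.cast_natCast]
  have h1 : (Ideal.Quotient.mk M (⟨z, hi⟩ - 1)) ^ p ^ k = 0 := by
    rw [map_sub, sub_pow_char_pow, ← map_pow, map_one, one_pow,
      show (⟨z, hi⟩ : AlgInt) ^ p ^ k = 1 from Subtype.ext hz, map_one, sub_self]
  have h2 := Ideal.Quotient.eq_zero_iff_mem.mp (pow_eq_zero_iff (pow_pos hM.1.pos k).ne' |>.mp h1)
  exact memLI_of_mem hP h2

variable {G : Type u} [Group G]

/-- At a `p`-element a character is congruent to its degree. -/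
theorem memLI_char_sub_degree [Finite G] (hM : IsPModular p M) {χ : G → ℂ}
    (hχ : IsCharacter G χ) {g : G} {k : ℕ} (hg : g ^ p ^ k = 1) :
    MemLocalIdeal M (χ g - χ 1) := by
  have hP := hM.2.1.isPrime
  have hcomm : ∀ a b : Subgroup.zpowers g, a * b = b * a := by
    rintro ⟨_, m, rfl⟩ ⟨_, n, rfl⟩
    exact Subtype.ext (zpow_mul_comm g m n)
  have key : ∀ ψ : Subgroup.zpowers g → ℂ, IsCharacter _ ψ →
      MemLocalIdeal M (ψ ⟨g, Subgroup.mem_zpowers g⟩ - ψ 1) := by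
    intro ψ hψ
    refine isChar_induction
      (P := fun ψ => MemLocalIdeal M (ψ ⟨g, Subgroup.mem_zpowers g⟩ - ψ 1)) ?_ ?_ ?_ hψ
    · simpa using memLI_zero hP
    · intro φ hφ
      have h1 := isIrr_degree_of_comm hcomm hφ
      let f : Subgroup.zpowers g →* ℂ :=
        ⟨⟨φ, h1⟩, isChar_mul_of_degree_one (isChar_of_irr hφ) h1⟩
      rw [h1]
      refine memLI_sub_one_of_pow hM (k := k) ?_
      change f _ ^ _ = 1
      rw [← map_pow, show (⟨g, Subgroup.mem_zpowers g⟩ : Subgroup.zpowers g) ^ p ^ k = 1 from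
        Subtype.ext hg, map_one]
    · intro a b _ _ ha hb
      have := memLI_add hP ha hb
      simp only [Pi.add_apply]
      convert this using 1
      ring
  exact key _ (isChar_comp (Subgroup.zpowers g).subtype hχ)

theorem charDegree_eq {χ : G → ℂ} {n : ℕ} (h : χ 1 = n) : charDegree χ = n := by
  simp [charDegree, h]

theorem isChar_charDegree {χ : G → ℂ} (hχ : IsCharacter G χ) : (charDegree χ : ℂ) = χ 1 := by
  obtain ⟨n, hn⟩ := isChar_degree hχ
  rw [charDegree_eq hn, hn]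

theorem sameBlock_refl (hM : M.IsPrime) (χ : G → ℂ) : SameBlock M χ χ := fun g => by
  rw [sub_self]; exact memLI_zero hM

theorem sameBlock_symm {χ ψ : G → ℂ} (h : SameBlock M χ ψ) : SameBlock M ψ χ := fun g => by
  rw [← neg_sub]; exact memLI_neg (h g)

theorem sameBlock_trans (hM : M.IsPrime) {χ ψ φ : G → ℂ} (h : SameBlock M χ ψ)
    (h' : SameBlock M ψ φ) : SameBlock M χ φ := fun g => by
  rw [← sub_add_sub_cancel]; exact memLI_add hM (h g) (h' g)

end Cfsg.Agent.CharLib
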